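import Groth.Agent.DCohBridge.MayerVietoris
import Groth.Agent.DCohBridge.AffPush
import Groth.Agent.DCohBridge.QCohDLocal
import Groth.Agent.RPushBound.Bound
import Groth.Agent.RPushQCoh.FiveTerm
import Groth.Agent.QCohBase.Qcqs

/-! The unbounded derived direct image along a qcqs morphism preserves quasi-coherent cohomology. -/

set_option autoImplicit false
set_option backward.isDefEq.respectTransparency false
set_option backward.defeqAttrib.useBackward true

noncomputable section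

universe u

open CategoryTheory Limits AlgebraicGeometry Opposite TopologicalSpace
open Groth.Agent.DCohBridge

attribute [local instance] HasDerivedCategory.standard

namespace Groth.Agent.RPushD

variable {X Y : Scheme.{u}}

/-- quasi-coherent cohomology passes to isomorphic objects -/
theorem of_iso {K L : DCoh.D X} (e : K ≅ L) (h : DCoh.IsQCohD K) : DCoh.IsQCohD L := fun n =>
  TensorMod.isQCoh_of_iso ((DerivedCategory.homologyFunctor X.Modules n).mapIso e) (h n)

/-- the first vertex of a triangle -/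
theorem obj₁ {T : Pretriangulated.Triangle (DCoh.D X)} (hT : T ∈ Pretriangulated.distinguishedTriangles)
    (h₂ : DCoh.IsQCohD T.obj₂) (h₃ : DCoh.IsQCohD T.obj₃) : DCoh.IsQCohD T.obj₁ := fun n =>
  RPushQCoh.isQuasicoherent_five _ _ _ _ _ _ _
    (DerivedCategory.HomologySequence.exact₃ T hT (n - 1) n (by omega))
    (DerivedCategory.HomologySequence.exact₁ T hT (n - 1) n (by omega))
    (DerivedCategory.HomologySequence.exact₂ T hT n) (h₂ (n - 1)) (h₃ (n - 1)) (h₂ n) (h₃ n)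

/-- the middle vertex of a triangle -/
theorem obj₂ {T : Pretriangulated.Triangle (DCoh.D X)} (hT : T ∈ Pretriangulated.distinguishedTriangles)
    (h₁ : DCoh.IsQCohD T.obj₁) (h₃ : DCoh.IsQCohD T.obj₃) : DCoh.IsQCohD T.obj₂ := fun n =>
  RPushQCoh.isQuasicoherent_five _ _ _ _ _ _ _
    (DerivedCategory.HomologySequence.exact₁ T hT (n - 1) n (by omega))
    (DerivedCategory.HomologySequence.exact₂ T hT n)
    (DerivedCategory.HomologySequence.exact₃ T hT n (n + 1) rfl) (h₃ (n - 1)) (h₁ n) (h₃ n) (h₁ (n + 1))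

/-- affine morphisms out of a spectrum -/
theorem affine_spec {R : CommRingCat.{u}} (g : Spec R ⟶ Y) [IsAffineHom g] [DCoh.HasRpush g]
    {E : DCoh.D (Spec R)} (hE : DCoh.IsQCohD E) : DCoh.IsQCohD ((DCoh.Rpush g).obj E) := by
  obtain ⟨M, -, ⟨e⟩⟩ := exists_tilde_rep hE R (𝟙 _)
  haveI : DCoh.HasRpush (𝟙 (Spec R) ≫ g) := hasRpush _
  obtain ⟨e'⟩ := nonempty_restrictD_Rpush g (𝟙 Y) (𝟙 (Spec R)) (𝟙 (Spec R) ≫ g) (by simp)
    (by ext; simp) E
  let W := (Affine.TC R).obj M
  have hW : ∀ n, Coh.IsQCoh (W.X n) := fun n => inferInstanceAs (((tilde.functor R).obj (M.X n)).IsQuasicoherent)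
  let g' : Spec R ⟶ Y := 𝟙 (Spec R) ≫ g
  haveI : IsAffineHom g' := inferInstance
  haveI := isIso_Rpush_unit_affine g' W hW
  let η := ((DCoh.pushKh g').totalRightDerivedUnit DerivedCategory.Qh
    (HomotopyCategory.quasiIso (Spec R).Modules (ComplexShape.up ℤ))).app ((HomotopyCategory.quotient _ _).obj W)
  let eη : (DCoh.Rpush g').obj (DCoh.toD (Spec R) W) ≅
      DCoh.toD Y (((Scheme.Modules.pushforward g').mapHomologicalComplex (ComplexShape.up ℤ)).obj W) :=
    (asIso η).symm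
  refine isQCohD_of_local fun y => ⟨Y, 𝟙 Y, inferInstance, y, rfl, ?_⟩
  refine of_iso (e' ≪≫ (DCoh.Rpush g').mapIso e ≪≫ eη).symm fun n => ?_
  refine TensorMod.isQCoh_of_iso ((DerivedCategory.homologyFunctorFactors Y.Modules n).app _).symm ?_
  exact isQCoh_homology (fun m => haveI := hW m; QCohBase.isQuasicoherent_pushforward (W.X m) g') n

/-- affine source and affine target -/
theorem affine [IsAffine X] [IsAffine Y] (g : X ⟶ Y) [DCoh.HasRpush g] {E : DCoh.D X} (hE : DCoh.IsQCohD E) :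
    DCoh.IsQCohD ((DCoh.Rpush g).obj E) := by
  haveI : DCoh.HasRpush (X.isoSpec.inv ≫ g) := hasRpush _
  obtain ⟨e'⟩ := nonempty_restrictD_Rpush g (𝟙 Y) X.isoSpec.inv (X.isoSpec.inv ≫ g) (by simp)
    (by rw [Scheme.Hom.opensRange_of_isIso, Scheme.Hom.opensRange_of_isIso]; rfl) E
  refine isQCohD_of_local fun y => ⟨Y, 𝟙 Y, inferInstance, y, rfl, of_iso e'.symm ?_⟩
  exact affine_spec _ (isQCohD_restrictD X.isoSpec.inv hE)

/-- affine target -/
theorem affine_target [IsAffine Y] [CompactSpace X] [QuasiSeparatedSpace X] (f : X ⟶ Y) [DCoh.HasRpush f]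
    {E : DCoh.D X} (hE : DCoh.IsQCohD E) : DCoh.IsQCohD ((DCoh.Rpush f).obj E) := by
  let P : X.Opens → Prop := fun W => ∀ (T : Scheme.{u}) (i : T ⟶ X) [IsOpenImmersion i], i.opensRange = W →
    ∀ (g : T ⟶ Y), g = i ≫ f → ∀ [DCoh.HasRpush g], ∀ F : DCoh.D T, DCoh.IsQCohD F →
      DCoh.IsQCohD ((DCoh.Rpush g).obj F)
  have hP : P ⊤ := by
    refine RPushBound.qcqs_induction_on (W₀ := ⊤) (isQuasiSeparated_univ) P ?_ ?_ ⊤ isCompact_univ le_rfl
    · intro U hU _ T i _ hi g _ _ F hF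
      haveI : IsAffine U := hU
      haveI : IsAffine T := IsAffine.of_isIso (i.isoOpensRange ≪≫ X.isoOfEq hi).hom
      exact affine g hF
    · intro U V hU hV hUV T i _ hi g hg _ F hF
      let A := i ⁻¹ᵁ U
      let B := i ⁻¹ᵁ V
      have hAB : A ⊔ B = ⊤ := by
        show i ⁻¹ᵁ U ⊔ i ⁻¹ᵁ V = ⊤
        rw [← Scheme.Hom.preimage_sup, ← hi]
        exact Opens.ext (Set.eq_univ_of_forall fun x => ⟨x, rfl⟩)
      have hr : ∀ W : X.Opens, W ≤ U ⊔ V → ((i ⁻¹ᵁ W).ι ≫ i).opensRange = W := fun W hW => by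
        rw [Scheme.Hom.opensRange_comp, Scheme.Opens.opensRange_ι, Scheme.Hom.image_preimage_eq_opensRange_inf, hi]
        exact inf_eq_right.mpr hW
      haveI : DCoh.HasRpush (A.ι ≫ g) := hasRpush _
      haveI : DCoh.HasRpush (B.ι ≫ g) := hasRpush _
      haveI : DCoh.HasRpush ((A ⊓ B).ι ≫ g) := hasRpush _
      obtain ⟨a, b, c, hT⟩ := exists_mv_triangle g A B hAB (A.ι ≫ g) rfl (B.ι ≫ g) rfl ((A ⊓ B).ι ≫ g) rfl
        F ((DCoh.Rpush g).obj F) fun I hI e =>
          haveI := isIso_Rpush_unit g (P := (HomotopyCategory.quotient _ _).obj I) ⟨I, hI, rfl⟩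
          ⟨((asIso (((DCoh.pushKh g).totalRightDerivedUnit DerivedCategory.Qh
            (HomotopyCategory.quasiIso T.Modules (ComplexShape.up ℤ))).app ((HomotopyCategory.quotient _ _).obj I))) ≪≫ (DCoh.Rpush g).mapIso e)⟩
      have hA : DCoh.IsQCohD ((DCoh.Rpush (A.ι ≫ g)).obj ((DCoh.restrictD A.ι).obj F)) :=
        hU _ (A.ι ≫ i) (hr U le_sup_left) _ (by rw [hg, Category.assoc]) _ (isQCohD_restrictD A.ι hF)
      have hB : DCoh.IsQCohD ((DCoh.Rpush (B.ι ≫ g)).obj ((DCoh.restrictD B.ι).obj F)) :=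
        hV _ (B.ι ≫ i) (hr V le_sup_right) _ (by rw [hg, Category.assoc]) _ (isQCohD_restrictD B.ι hF)
      have hC : DCoh.IsQCohD ((DCoh.Rpush ((A ⊓ B).ι ≫ g)).obj ((DCoh.restrictD (A ⊓ B).ι).obj F)) :=
        hUV _ ((A ⊓ B).ι ≫ i) (hr (U ⊓ V) (inf_le_left.trans le_sup_left)) _ (by rw [hg, Category.assoc]) _
          (isQCohD_restrictD (A ⊓ B).ι hF)
      have hM := obj₂ (Pretriangulated.binaryBiproductTriangle_distinguished
        ((DCoh.Rpush (A.ι ≫ g)).obj ((DCoh.restrictD A.ι).obj F)) ((DCoh.Rpush (B.ι ≫ g)).obj ((DCoh.restrictD B.ι).obj F))) hA hB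
      exact obj₁ hT hM hC
  exact hP X (𝟙 X) (Scheme.Hom.opensRange_of_isIso _) f (Category.id_comp f).symm E hE

/-- Derived direct image along a qcqs morphism preserves quasi-coherent cohomology. -/
theorem isQCohD_Rpush (f : X ⟶ Y) [QuasiCompact f] [QuasiSeparated f] [DCoh.HasRpush f]
    {E : DCoh.D X} (hE : DCoh.IsQCohD E) : DCoh.IsQCohD ((DCoh.Rpush f).obj E) := by
  refine isQCohD_of_local fun y => ?_
  obtain ⟨R, j, _, p, hp, -⟩ := exists_affine_chart ⊤ y trivial
  refine ⟨Spec R, j, inferInstance, p, hp, ?_⟩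
  let k := pullback.fst f j
  let g := pullback.snd f j
  haveI : DCoh.HasRpush g := hasRpush _
  haveI : CompactSpace ↥(pullback f j) := QuasiCompact.compactSpace_of_compactSpace g
  haveI : QuasiSeparatedSpace ↥(pullback f j) := quasiSeparatedSpace_of_quasiSeparated g
  obtain ⟨e⟩ := nonempty_restrictD_Rpush f j k g pullback.condition (Scheme.Hom.opensRange_pullbackFst _ _) E
  exact of_iso e.symm (affine_target g (isQCohD_restrictD k hE))

end Groth.Agent.RPushD
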